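import Groth.Agent.MTBridge.TrivLocus
import Groth.Agent.Chev.CentralMT
import Groth.Agent.Chev.TorusBasic
import Mathlib.AlgebraicGeometry.Morphisms.Proper

/-!
# Homomorphisms from tori to proper groups are trivial over any base
-/

set_option autoImplicit false
set_option backward.isDefEq.respectTransparency false
set_option backward.isDefEq.respectTransparency.types false
universe u

open CategoryTheory CategoryTheory.Limits MonoidalCategory CartesianMonoidalCategory MonObj AlgebraicGeometry
open scoped CategoryTheory.Obj

namespace Groth.Agent.AbTorus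

/-- A homomorphism from a torus to a proper group scheme of finite type is trivial. -/
theorem eq_one {S : Scheme.{u}} {T A : Over S} [GrpObj T] [GrpObj A] (hT : Red.IsTorus T) [IsProper A.hom]
    (f : T ⟶ A) [IsMonHom f] : f = 1 := by
  obtain ⟨U, -, hU, hU1⟩ := MTBridge.exists_clopen_trivial T A (MTBridge.isMultTypeFT_of_isTorus T hT)
    (Or.inr inferInstance) f
  have htop : U = ⊤ := by
    refine TopologicalSpace.Opens.ext (Set.eq_univ_of_forall fun s => (hU s).2 ?_)
    haveI : IsProper (Red.bc (S.fromSpecResidueField s) A).hom :=
      inferInstanceAs (IsProper (pullback.snd A.hom (S.fromSpecResidueField s)))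
    exact Chev.eq_one_of_isTorus_of_proper (Chev.Borel.isTorus_bc_scheme T (S.fromSpecResidueField s) hT) _
  haveI : IsIso U.ι := by rw [htop]; exact inferInstanceAs (IsIso (Scheme.topIso S).hom)
  haveI : IsIso (pullback.fst T.hom U.ι) := inferInstance
  have h := congrArg (fun m => CommaMorphism.left m ≫ pullback.fst A.hom U.ι)
    (hU1.trans (MTBridge.map_one_bc U.ι T A).symm)
  simp only [Over.pullback_map_left, pullback.lift_fst] at h
  exact Over.OverMorphism.ext ((cancel_epi (pullback.fst T.hom U.ι)).1 h)

end Groth.Agent.AbTorus
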