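import Groth.Agent.Rigid.Smooth
import Groth.Agent.MTBridge.CentralNhd
import Groth.Agent.GeomConn.Basic
import Groth.Agent.MTBridge.Charts
import Groth.Agent.AbTorus.Basic

/-!
# Homomorphisms from proper smooth groups with connected fibres to affine groups are trivial
-/

set_option autoImplicit false
set_option backward.isDefEq.respectTransparency false
set_option backward.isDefEq.respectTransparency.types false
set_option synthInstance.maxHeartbeats 200000
universe u

open CategoryTheory CategoryTheory.Limits MonoidalCategory CartesianMonoidalCategory MonObj AlgebraicGeometry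
open scoped CategoryTheory.Obj

namespace Groth.Agent.AbTorus

/-- A homomorphism from a proper smooth group with geometrically connected fibres to an affine one is trivial. -/
theorem eq_one_of_affine {S : Scheme.{u}} {A T : Over S} [GrpObj A] [GrpObj T] [IsProper A.hom] [Smooth A.hom]
    [GeometricallyConnected A.hom] [IsAffineHom T.hom] (f : A ⟶ T) [IsMonHom f] : f = 1 := by
  have hs : η[A] ≫ f = η[A] ≫ (1 : A ⟶ T) := by
    rw [MonObj.comp_one, IsMonHom.one_hom, Hom.one_def, toUnit_unique (toUnit (𝟙_ (Over S))) (𝟙 _),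
      Category.id_comp]
  have hs' := congrArg CommaMorphism.left hs
  simp only [Over.comp_left] at hs'
  refine Over.OverMorphism.ext (Rigid.hom_ext_of_forall _ _ fun x => ?_)
  obtain ⟨U, hU, hxU, -⟩ := exists_isAffineOpen_mem_and_subset (X := S) (x := A.hom x) (U := ⊤) trivial
  refine ⟨A.hom ⁻¹ᵁ U, hxU, ?_⟩
  haveI : IsAffine ↑(T.hom ⁻¹ᵁ U) := hU.preimage T.hom
  have hsec : (η[A]).left ≫ A.hom = 𝟙 S := Over.w (η[A])
  haveI : GeometricallyConnected (A.hom ∣_ U) :=
    MorphismProperty.of_isPullback (isPullback_morphismRestrict A.hom U).flip ‹_›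
  have hσ : (A.hom ⁻¹ᵁ U).ι ≫ A.hom = (A.hom ∣_ U) ≫ U.ι := (morphismRestrict_ι A.hom U).symm
  let σ : U.toScheme ⟶ ↑(A.hom ⁻¹ᵁ U) := (isPullback_morphismRestrict A.hom U).lift (𝟙 _) (U.ι ≫ (η[A]).left)
    (by rw [Category.id_comp, Category.assoc, hsec, Category.comp_id])
  have hσ1 : σ ≫ (A.hom ∣_ U) = 𝟙 _ := (isPullback_morphismRestrict A.hom U).lift_fst _ _ _
  have hσ2 : σ ≫ (A.hom ⁻¹ᵁ U).ι = U.ι ≫ (η[A]).left := (isPullback_morphismRestrict A.hom U).lift_snd _ _ _
  let r : (A ⟶ T) → ((A.hom ⁻¹ᵁ U).toScheme ⟶ (T.hom ⁻¹ᵁ U).toScheme) := fun m =>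
    (isPullback_morphismRestrict T.hom U).lift (A.hom ∣_ U) ((A.hom ⁻¹ᵁ U).ι ≫ m.left)
      (by rw [Category.assoc, Over.w m]; exact hσ.symm)
  have hr : ∀ m, r m ≫ (T.hom ⁻¹ᵁ U).ι = (A.hom ⁻¹ᵁ U).ι ≫ m.left := fun m =>
    (isPullback_morphismRestrict T.hom U).lift_snd _ _ _
  rw [← hr, ← hr]
  congr 1
  refine Rigid.eq_of_section (A.hom ∣_ U) (Rigid.goodFibres_of_smooth _) σ hσ1 _ _ ?_
  rw [← cancel_mono (T.hom ⁻¹ᵁ U).ι, Category.assoc, Category.assoc, hr, hr, reassoc_of% hσ2, reassoc_of% hσ2, hs']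

/-- Abelian schemes have geometrically connected structure maps. -/
theorem geometricallyConnected {S : Scheme.{u}} {A : Over S} [GrpObj A] [LocallyOfFiniteType A.hom]
    (hA : ∀ s : S, ConnectedSpace ↥(A.hom.fiber s)) : GeometricallyConnected A.hom :=
  haveI := MTBridge.geometricallyIrreducible_of_connectedSpace (G := A) hA
  GeomConn.geometricallyConnected_of_irreducible _

/-- Abelian schemes have no homomorphisms to tori after any base change. -/
theorem bc_abelian_eq_one {S : Scheme.{u}} {A T : Over S} [GrpObj A] [GrpObj T] [Smooth A.hom] [IsProper A.hom]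
    (hA : ∀ s : S, ConnectedSpace ↥(A.hom.fiber s)) (hT : Red.IsTorus T)
    {Y : Scheme.{u}} (g : Y ⟶ S) (f : Red.bc g A ⟶ Red.bc g T) (hf : IsMonHom f) : f = 1 :=
  haveI : IsAffineHom T.hom := MTBridge.isAffineHom T (MTBridge.isMultTypeFT_of_isTorus T hT)
  haveI := geometricallyConnected hA
  haveI : IsAffineHom (Red.bc g T).hom := MorphismProperty.pullback_snd (P := @IsAffineHom) T.hom g ‹_›
  haveI : IsProper (Red.bc g A).hom := inferInstanceAs (IsProper (pullback.snd A.hom g))
  haveI : Smooth (Red.bc g A).hom := inferInstanceAs (Smooth (pullback.snd A.hom g))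
  haveI : GeometricallyConnected (Red.bc g A).hom := inferInstanceAs (GeometricallyConnected (pullback.snd A.hom g))
  eq_one_of_affine f

end Groth.Agent.AbTorus
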