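import Groth.Agent.AbTorus.HomSh
import Groth.Agent.AbTorus.AbToAffine

/-!
# Comparison of internal Homs along short exact sequences with vanishing Homs
-/

set_option autoImplicit false
set_option backward.isDefEq.respectTransparency false
set_option backward.isDefEq.respectTransparency.types false
set_option linter.style.haveILetI false
universe u

open CategoryTheory CategoryTheory.Limits AlgebraicGeometry Opposite

noncomputable section

namespace Groth.Agent.AbTorus

open GaExt

local notation "K" => Scheme.fppfPrecoverage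

variable {X : Scheme.{u}} {A B C G : BigSite.Ab K X} {f : A ⟶ B} {g : B ⟶ C} {w : f ≫ g = 0}
  (hS : (ShortComplex.mk f g w).ShortExact)

/-- A sheaf morphism with bijective components is an isomorphism. -/
theorem isIso_of_bijective {F F' : BigSite.Ab K X} (φ : F ⟶ F') (h : ∀ Y, Function.Bijective (φ.hom.app Y)) :
    IsIso φ :=
  haveI : ∀ Y, IsIso (φ.hom.app Y) := fun Y => (ConcreteCategory.isIso_iff_bijective _).2 (h Y)
  haveI : IsIso φ.hom := NatIso.isIso_of_isIso_app _
  haveI : IsIso ((sheafToPresheaf _ _).map φ) := ‹_›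
  isIso_of_fully_faithful (sheafToPresheaf _ _) _

/-- A sheaf morphism with injective components is a monomorphism. -/
theorem mono_of_injective {F F' : BigSite.Ab K X} (φ : F ⟶ F') (h : ∀ Y, Function.Injective (φ.hom.app Y)) :
    Mono φ :=
  haveI : ∀ Y, Mono (φ.hom.app Y) := fun Y => (AddCommGrpCat.mono_iff_injective _).2 (h Y)
  haveI : Mono φ.hom := NatTrans.mono_of_mono_app _
  (sheafToPresheaf _ _).mono_of_mono_map ‹_›

include hS

theorem isIso_pre (hz : ∀ {Y : Over X} (d : A.over Y ⟶ G.over Y), d = 0) :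
    IsIso (HomSh.homShMap (QuotSh.J K X) g (𝟙 G)) := by
  haveI := hS.epi_g
  haveI := mono_homShMap (G := G) g
  refine isIso_of_bijective _ fun Y => ⟨BiextTriv.sect_injective _ _ Y.unop, fun r => ?_⟩
  change B.over Y.unop ⟶ G.over Y.unop at r
  obtain ⟨h, hh⟩ := exists_over_desc hS r fun {W} a x => congrArg (fun φ : A.over Y.unop ⟶ G.over Y.unop => ov φ a x)
    (hz (((QuotSh.J K X).overPullback AddCommGrpCat.{u + 1} Y.unop).map f ≫ r))
  exact ⟨h, over_hom_ext fun {W} a e => hh a e⟩

theorem mono_pre (hz : ∀ {Y : Over X} (d : C.over Y ⟶ G.over Y), d = 0) :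
    Mono (HomSh.homShMap (QuotSh.J K X) f (𝟙 G)) := by
  refine mono_of_injective _ fun Y => (injective_iff_map_eq_zero _).2 fun r e => ?_
  change B.over Y.unop ⟶ G.over Y.unop at r
  obtain ⟨h, hh⟩ := exists_over_desc hS r fun {W} a x =>
    congrArg (fun φ : A.over Y.unop ⟶ G.over Y.unop => ov φ a x) e
  refine over_hom_ext fun {W} a b => ?_
  rw [← hh a b, hz h]
  rfl

/-- A morphism over `Y` killed by the quotient lifts to the kernel. -/
theorem exists_over_lift {Y : Over X} (d : G.over Y ⟶ B.over Y)
    (hd : ∀ {W : Over X} (a : W ⟶ Y) (e : BigSite.sect K G W), app g (ov d a e) = 0) :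
    ∃ q : G.over Y ⟶ A.over Y, ∀ {W : Over X} (a : W ⟶ Y) (e : BigSite.sect K G W), app f (ov q a e) = ov d a e := by
  haveI := hS.mono_f
  choose q hq using fun (U : Over Y) (e : BigSite.sect K G U.left) =>
    BiextTriv.exists_of_fork (QuotSh.J K X) f g w hS.fIsKernel U.left (ov d U.hom e) (hd U.hom e)
  have hinj : ∀ (W : Over X) (u v : BigSite.sect K A W), app f u = app f v → u = v :=
    fun W u v h => BiextTriv.sect_injective _ f W h
  refine ⟨⟨{
      app := fun U => AddCommGrpCat.ofHom (X := BigSite.sect K G U.unop.left)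
        (Y := BigSite.sect K A U.unop.left) (AddMonoidHom.mk'
          (fun e => q U.unop e) (fun e e' => hinj _ _ _ (by
            refine (hq _ _).trans ?_
            rw [map_add]
            refine Eq.trans ?_ (map_add (f.hom.app (op U.unop.left)).hom _ _).symm
            exact (congrArg₂ (· + ·) (hq _ e) (hq _ e')).symm)))
      naturality := fun U V j => AddCommGrpCat.ext fun e => hinj _ _ _ (by
        refine (hq _ _).trans ?_
        refine Eq.trans ?_ (app_res f j.unop.left (q U.unop e)).symm
        refine Eq.trans ?_ (congrArg (res B j.unop.left) (hq _ e)).symm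
        rw [← over_app_res, Over.w j.unop]
        rfl) }⟩, fun {W} a e => hq (Over.mk a) e⟩

theorem mono_post (hz : ∀ {Y : Over X} (d : G.over Y ⟶ A.over Y), d = 0) :
    Mono (HomSh.homShMap (QuotSh.J K X) (𝟙 G) g) := by
  refine mono_of_injective _ fun Y => (injective_iff_map_eq_zero _).2 fun r e => ?_
  change G.over Y.unop ⟶ B.over Y.unop at r
  obtain ⟨q, hq⟩ := exists_over_lift hS r fun {W} a b =>
    congrArg (fun φ : G.over Y.unop ⟶ C.over Y.unop => ov φ a b) e
  refine over_hom_ext fun {W} a b => ?_
  rw [← hq a b, hz q]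
  exact map_zero _

theorem isIso_post (hz : ∀ {Y : Over X} (d : G.over Y ⟶ C.over Y), d = 0) :
    IsIso (HomSh.homShMap (QuotSh.J K X) (𝟙 G) f) := by
  haveI := hS.mono_f
  refine isIso_of_bijective _ fun Y => ⟨fun r r' e => over_hom_ext fun {W} a b =>
    BiextTriv.sect_injective _ f W (congrArg (fun φ : G.over Y.unop ⟶ B.over Y.unop => ov φ a b) e), fun r => ?_⟩
  change G.over Y.unop ⟶ B.over Y.unop at r
  obtain ⟨q, hq⟩ := exists_over_lift hS r fun {W} a b =>
    congrArg (fun φ : G.over Y.unop ⟶ C.over Y.unop => ov φ a b)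
      (hz (r ≫ ((QuotSh.J K X).overPullback AddCommGrpCat.{u + 1} Y.unop).map g))
  exact ⟨q, over_hom_ext fun {W} a e => hq a e⟩

end Groth.Agent.AbTorus
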