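import Groth.Agent.AbTorus.Basic
import Groth.Agent.GaExt.DualExact
import Groth.Agent.MTBridge.ExtCentral
import Groth.Agent.SekK.GenFibre

/-!
# Vanishing of internal Homs of sheaves of points from vanishing of homomorphisms after every base change
-/

set_option autoImplicit false
set_option backward.isDefEq.respectTransparency false
set_option backward.isDefEq.respectTransparency.types false
set_option linter.style.haveILetI false
set_option synthInstance.maxHeartbeats 200000
universe u

open CategoryTheory CategoryTheory.Limits MonoidalCategory CartesianMonoidalCategory MonObj AlgebraicGeometry Opposite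
open scoped CategoryTheory.Obj

noncomputable section

namespace Groth.Agent.AbTorus

variable {S : Scheme.{u}} {G H : Over S} [GrpObj G] [IsCommMonObj G] [GrpObj H] [IsCommMonObj H]

local notation "K" => Scheme.fppfPrecoverage

/-- The object over `Y` of an object over the source of `Y`. -/
def aY (Y : Over S) (V : Over Y.left) : (Over.map Y.hom).obj V ⟶ Y := Over.homMk V.hom rfl

/-- The inverse of the comparison of points. -/
def ofBase {S S' : Scheme.{u}} {G : Over S} {τ : S' ⟶ S} {U : Over S'} (f : (Over.map τ).obj U ⟶ G) :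
    U ⟶ Red.bc τ G :=
  (Over.mapPullbackAdj τ).homEquiv _ _ f

theorem toBase_ofBase {S S' : Scheme.{u}} {G : Over S} {τ : S' ⟶ S} {U : Over S'} (f : (Over.map τ).obj U ⟶ G) :
    SekK.toBase (ofBase f) = f :=
  Equiv.symm_apply_apply _ _

theorem toBase_comp {S S' : Scheme.{u}} {G : Over S} {τ : S' ⟶ S} {U V : Over S'} (x : V ⟶ U) (f : U ⟶ Red.bc τ G) :
    SekK.toBase (x ≫ f) = (Over.map τ).map x ≫ SekK.toBase f :=
  (Over.mapPullbackAdj τ).homEquiv_naturality_left_symm _ _

theorem toBase_one {S S' : Scheme.{u}} {G : Over S} [GrpObj G] {τ : S' ⟶ S} {U : Over S'} :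
    SekK.toBase (1 : U ⟶ Red.bc τ G) = 1 := by
  have h := SekK.toBase_mul (1 : U ⟶ Red.bc τ G) 1
  rw [_root_.mul_one] at h
  exact mul_eq_left.1 h.symm

/-- The value of a morphism over `Y` on a point of the base change. -/
def val {Y : Over S} (d : (CGrpSh.pts K G).over Y ⟶ (CGrpSh.pts K H).over Y) {V : Over Y.left}
    (x : V ⟶ Red.bc Y.hom G) : (Over.map Y.hom).obj V ⟶ H :=
  (GaExt.ov d (aY Y V) (ULift.up (Additive.ofMul (SekK.toBase x)))).down.toMul

theorem val_comp {Y : Over S} (d : (CGrpSh.pts K G).over Y ⟶ (CGrpSh.pts K H).over Y) {U V : Over Y.left}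
    (k : V ⟶ U) (x : U ⟶ Red.bc Y.hom G) : val d (k ≫ x) = (Over.map Y.hom).map k ≫ val d x := by
  have h := GaExt.over_app_res d ((Over.map Y.hom).map k) (aY Y U) (ULift.up (Additive.ofMul (SekK.toBase x)))
  have e : (Over.map Y.hom).map k ≫ aY Y U = aY Y V := Over.OverMorphism.ext (Over.w k)
  rw [val, toBase_comp, ← e]
  exact congrArg (fun z => z.down.toMul) h

/-- If there are no non-trivial homomorphisms after any base change, morphisms over any object vanish. -/
theorem over_hom_eq_zero
    (h : ∀ {Y : Scheme.{u}} (g : Y ⟶ S) (f : Red.bc g G ⟶ Red.bc g H), IsMonHom f → f = 1)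
    {Y : Over S} (d : (CGrpSh.pts K G).over Y ⟶ (CGrpSh.pts K H).over Y) : d = 0 := by
  let φ : Red.bc Y.hom G ⟶ Red.bc Y.hom H := ofBase (val d (𝟙 _))
  have hφ : ∀ {V : Over Y.left} (x : V ⟶ Red.bc Y.hom G), SekK.toBase (x ≫ φ) = val d x := fun {V} x => by
    rw [toBase_comp, toBase_ofBase, ← val_comp, Category.comp_id]
  have h1 : φ = 1 := h Y.hom φ (MTBridge.isMonHom_of_points φ fun X x y => SekK.toBase_injective (by
    rw [SekK.toBase_mul, hφ, hφ, hφ, val, val, val, SekK.toBase_mul]
    exact congrArg (fun z => z.down.toMul) ((GaExt.ov d (aY Y X)).map_add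
      (ULift.up (Additive.ofMul (SekK.toBase x))) (ULift.up (Additive.ofMul (SekK.toBase y))))))
  have h0 : ∀ {V : Over Y.left} (x : V ⟶ Red.bc Y.hom G), val d x = 1 := fun {V} x => by
    rw [← hφ, h1, MonObj.comp_one, toBase_one]
  refine GaExt.over_hom_ext fun {W} a e => ?_
  let V : Over Y.left := Over.mk a.left
  let ii : (Over.map Y.hom).obj V ⟶ W := Over.homMk (𝟙 _) (by simp [V])
  let jj : W ⟶ (Over.map Y.hom).obj V := Over.homMk (𝟙 _) (by simp [V])
  have e1 : jj ≫ aY Y V = a := Over.OverMorphism.ext (Category.id_comp _)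
  have e2 : jj ≫ ii = 𝟙 W := Over.OverMorphism.ext (Category.id_comp _)
  have hz : GaExt.ov d (aY Y V) (ULift.up (Additive.ofMul (ii ≫ e.down.toMul))) = 0 := by
    have h2 := h0 (ofBase (ii ≫ e.down.toMul))
    rw [val, toBase_ofBase] at h2
    exact ULift.ext _ _ h2
  have he : GaExt.res (CGrpSh.pts K G) jj (ULift.up (Additive.ofMul (ii ≫ e.down.toMul))) = e := by
    refine ULift.ext _ _ ?_
    show Additive.ofMul (jj ≫ ii ≫ e.down.toMul) = _
    rw [← Category.assoc, e2, Category.id_comp]
    rfl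
  calc GaExt.ov d a e = GaExt.ov d (jj ≫ aY Y V) (GaExt.res (CGrpSh.pts K G) jj _) := by rw [e1, he]
    _ = GaExt.res (CGrpSh.pts K H) jj 0 := by rw [GaExt.over_app_res, hz]
    _ = 0 := map_zero _

theorem homSh_isZero
    (h : ∀ {Y : Scheme.{u}} (g : Y ⟶ S) (f : Red.bc g G ⟶ Red.bc g H), IsMonHom f → f = 1) :
    IsZero (HomSh.homSh (QuotSh.J K S) (CGrpSh.pts K G) (CGrpSh.pts K H)) :=
  (IsZero.iff_id_eq_zero _).2 (Sheaf.hom_ext (NatTrans.ext (funext fun _ => AddCommGrpCat.ext fun d =>
    over_hom_eq_zero h d)))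

/-- Tori have no homomorphisms to proper groups after any base change. -/
theorem bc_torus_eq_one {T A : Over S} [GrpObj T] [GrpObj A] (hT : Red.IsTorus T) [IsProper A.hom]
    {Y : Scheme.{u}} (g : Y ⟶ S) (f : Red.bc g T ⟶ Red.bc g A) (hf : IsMonHom f) : f = 1 :=
  haveI : IsProper (Red.bc g A).hom := inferInstanceAs (IsProper (pullback.snd A.hom g))
  eq_one (Chev.Borel.isTorus_bc_scheme T g hT) f

end Groth.Agent.AbTorus
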